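import Mathlib

/-!
# Central extensions: transfer and commutator calculus
-/

set_option autoImplicit false

namespace Cfsg.Agent.Lib.Helper37.CentralExt

open scoped commutatorElement

variable {Γ : Type*} [Group Γ]

/-- transfer: a central element of the commutator subgroup, raised to the index of `M`, lies in
the commutator subgroup of `M`. -/
theorem pow_index_mem_commutator (M : Subgroup Γ) [M.FiniteIndex] {z : Γ}
    (hz : z ∈ Subgroup.center Γ) (hz' : z ∈ commutator Γ) : z ^ M.index ∈ ⁅M, M⁆ := by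
  have key : ∀ (k : ℕ) (g₀ : Γ), g₀⁻¹ * z ^ k * g₀ ∈ M → g₀⁻¹ * z ^ k * g₀ = z ^ k := by
    intro k g₀ _
    have h1 : z ^ k ∈ Subgroup.center Γ := Subgroup.pow_mem _ hz k
    rw [mul_assoc, (Subgroup.mem_center_iff.1 h1 g₀).symm, inv_mul_cancel_left]
  have h1 := MonoidHom.transfer_eq_pow (Abelianization.of : M →* Abelianization M) z key
  have h2 : MonoidHom.transfer (Abelianization.of : M →* Abelianization M) z = 1 :=
    Abelianization.commutator_subset_ker _ hz'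
  rw [h2] at h1
  have h3 : (⟨z ^ M.index, MonoidHom.transfer_eq_pow_aux z key⟩ : M) ∈ commutator M := by
    rw [← Abelianization.ker_of, MonoidHom.mem_ker]
    exact h1.symm
  have h4 : (commutator M).map M.subtype = ⁅M, M⁆ := Subgroup.map_subtype_commutator M
  rw [← h4]
  exact ⟨_, h3, rfl⟩

theorem comm_mul_central_left {u v κ : Γ} (hκ : κ ∈ Subgroup.center Γ) : ⁅u * κ, v⁆ = ⁅u, v⁆ := by
  have h := Subgroup.mem_center_iff.1 hκ
  rw [commutatorElement_def, commutatorElement_def, mul_inv_rev]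
  calc u * κ * v * (κ⁻¹ * u⁻¹) * v⁻¹ = u * (κ * v) * κ⁻¹ * u⁻¹ * v⁻¹ := by group
    _ = u * (v * κ) * κ⁻¹ * u⁻¹ * v⁻¹ := by rw [h v]
    _ = u * v * u⁻¹ * v⁻¹ := by group

theorem comm_mul_central_right {u v κ : Γ} (hκ : κ ∈ Subgroup.center Γ) : ⁅u, v * κ⁆ = ⁅u, v⁆ := by
  have h := Subgroup.mem_center_iff.1 hκ
  rw [commutatorElement_def, commutatorElement_def, mul_inv_rev]
  calc u * (v * κ) * u⁻¹ * (κ⁻¹ * v⁻¹) = u * v * (κ * u⁻¹) * κ⁻¹ * v⁻¹ := by group
    _ = u * v * (u⁻¹ * κ) * κ⁻¹ * v⁻¹ := by rw [h u⁻¹]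
    _ = u * v * u⁻¹ * v⁻¹ := by group

variable {G : Type*} [Group G] (σ : Γ →* G) (hc : σ.ker ≤ Subgroup.center Γ)

include hc in
/-- commutators only depend on the images -/
theorem comm_congr {u u' v v' : Γ} (hu : σ u = σ u') (hv : σ v = σ v') : ⁅u, v⁆ = ⁅u', v'⁆ := by
  have h1 : u⁻¹ * u' ∈ Subgroup.center Γ := hc (by
    rw [MonoidHom.mem_ker, map_mul, map_inv, hu, inv_mul_cancel])
  have h2 : v⁻¹ * v' ∈ Subgroup.center Γ := hc (by
    rw [MonoidHom.mem_ker, map_mul, map_inv, hv, inv_mul_cancel])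
  have e1 : u' = u * (u⁻¹ * u') := by group
  have e2 : v' = v * (v⁻¹ * v') := by group
  rw [e1, e2, comm_mul_central_left h1, comm_mul_central_right h2]

theorem comm_mul_left (a b c : Γ) : ⁅a * b, c⁆ = a * ⁅b, c⁆ * a⁻¹ * ⁅a, c⁆ := by
  simp only [commutatorElement_def]; group

theorem comm_mul_right (a b c : Γ) : ⁅a, b * c⁆ = ⁅a, b⁆ * (b * ⁅a, c⁆ * b⁻¹) := by
  simp only [commutatorElement_def]; group

theorem conj_comm (x a b : Γ) : x * ⁅a, b⁆ * x⁻¹ = ⁅x * a * x⁻¹, x * b * x⁻¹⁆ := by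
  simp only [commutatorElement_def]; group

end Cfsg.Agent.Lib.Helper37.CentralExt
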