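import Mathlib

/-!
An element `z` of prime order `p` of `GL(V)`, `V` of dimension `n` over the field with `q` elements,
where `q` has order at least `n` modulo `p`, acts irreducibly; its centraliser in `End V` is a finite
field, so every group of linear maps commuting with `z` is cyclic.
-/

set_option autoImplicit false

namespace Cfsg.Agent.Lib.Helper37.Irred

open Module

variable {F V : Type*} [Field F] [Fintype F] [AddCommGroup V] [Module F V] [FiniteDimensional F V]

theorem card_modEq_card_ker {p : ℕ} [Fact p.Prime] (z : Module.End F V) (hz : z ^ p = 1) :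
    Fintype.card F ^ finrank F V ≡ Fintype.card F ^ finrank F (LinearMap.ker (z - 1)) [MOD p] := by
  classical
  have : Finite V := Module.finite_of_finite F
  have : Fintype V := Fintype.ofFinite V
  let f : Function.End V := ⇑z
  have hpow : ∀ n : ℕ, ∀ v, (f ^ n) v = (z ^ n) v := by
    intro n
    induction n with
    | zero => intro v; rfl
    | succ n ih =>
      intro v
      rw [pow_succ, pow_succ]
      show (f ^ n) (f v) = (z ^ n) (z v)
      rw [ih]
  have hf : f ^ p ^ 1 = 1 := by
    funext v
    rw [pow_one, hpow, hz]; rfl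
  have key := Equiv.Perm.card_fixedPoints_modEq hf
  have e : Function.fixedPoints f = (LinearMap.ker (z - 1) : Set V) := by
    ext v
    rw [Function.mem_fixedPoints, SetLike.mem_coe, LinearMap.mem_ker, LinearMap.sub_apply,
      sub_eq_zero]
    rfl
  have h1 : Fintype.card V = Fintype.card F ^ finrank F V := by
    rw [← Nat.card_eq_fintype_card, Module.natCard_eq_pow_finrank (K := F), Nat.card_eq_fintype_card]
  have h2 : Fintype.card (Function.fixedPoints f) = Fintype.card F ^ finrank F (LinearMap.ker (z - 1)) := by
    rw [← Nat.card_eq_fintype_card, e]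
    show Nat.card (LinearMap.ker (z - 1)) = _
    rw [Module.natCard_eq_pow_finrank (K := F), Nat.card_eq_fintype_card]
  rw [h1, h2] at key
  exact key

theorem pow_modEq_one_of {p q a b : ℕ} (hp : p.Prime) (hpq : ¬ p ∣ q) (hab : b ≤ a)
    (h : q ^ a ≡ q ^ b [MOD p]) : q ^ (a - b) ≡ 1 [MOD p] := by
  have hc : p.gcd (q ^ b) = 1 := by
    apply Nat.Coprime.pow_right
    exact (Nat.Prime.coprime_iff_not_dvd hp).2 hpq
  apply Nat.ModEq.cancel_left_of_coprime hc
  rw [← pow_add, Nat.add_sub_cancel' hab, mul_one]
  exact h

theorem ker_sub_one_eq_bot {p : ℕ} [hp : Fact p.Prime] (z : Module.End F V) (hz : z ^ p = 1)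
    (hz1 : z ≠ 1) (hpq : ¬ p ∣ Fintype.card F)
    (hord : ∀ d, 0 < d → d < finrank F V → ¬ (Fintype.card F ^ d ≡ 1 [MOD p])) :
    LinearMap.ker (z - 1) = ⊥ := by
  have h1 := card_modEq_card_ker z hz
  have hle : finrank F (LinearMap.ker (z - 1)) ≤ finrank F V := Submodule.finrank_le _
  have h2 := pow_modEq_one_of hp.out hpq hle h1
  by_contra hne
  have hpos : 0 < finrank F (LinearMap.ker (z - 1)) := by
    rw [Module.finrank_pos_iff]
    exact (Submodule.nontrivial_iff_ne_bot).2 hne
  have hlt : finrank F (LinearMap.ker (z - 1)) < finrank F V := by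
    apply Submodule.finrank_lt
    intro htop
    apply hz1
    have := LinearMap.ker_eq_top.1 htop
    exact sub_eq_zero.1 this
  exact hord _ (by omega) (by omega) h2

/-- `z` acts irreducibly -/
theorem invariant_eq_bot_or_top {p : ℕ} [hp : Fact p.Prime] (z : Module.End F V) (hz : z ^ p = 1)
    (hz1 : z ≠ 1) (hpq : ¬ p ∣ Fintype.card F)
    (hord : ∀ d, 0 < d → d < finrank F V → ¬ (Fintype.card F ^ d ≡ 1 [MOD p]))
    (W : Submodule F V) (hW : ∀ w ∈ W, z w ∈ W) : W = ⊥ ∨ W = ⊤ := by
  have hker := ker_sub_one_eq_bot z hz hz1 hpq hord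
  have hz' : (z.restrict hW) ^ p = 1 := by
    rw [Module.End.pow_restrict p hW]
    ext w
    simp [hz]
  have h1 := card_modEq_card_ker (z.restrict hW) hz'
  have hk : LinearMap.ker (z.restrict hW - 1) = ⊥ := by
    rw [LinearMap.ker_eq_bot']
    intro w hw
    have h3 : (z - 1) (w : V) = 0 := by
      have := congrArg Subtype.val hw
      simpa using this
    have h4 : (w : V) ∈ LinearMap.ker (z - 1) := h3
    rw [hker, Submodule.mem_bot] at h4
    exact Subtype.ext h4
  rw [hk, finrank_bot, pow_zero] at h1
  by_contra hcon
  push Not at hcon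
  have hpos : 0 < finrank F W := by
    rw [Module.finrank_pos_iff]
    exact (Submodule.nontrivial_iff_ne_bot).2 hcon.1
  exact hord _ hpos (Submodule.finrank_lt hcon.2) h1

/-- the centraliser of `z` has no zero divisors -/
theorem eq_zero_or_bijective {p : ℕ} [hp : Fact p.Prime] (z : Module.End F V) (hz : z ^ p = 1)
    (hz1 : z ≠ 1) (hpq : ¬ p ∣ Fintype.card F)
    (hord : ∀ d, 0 < d → d < finrank F V → ¬ (Fintype.card F ^ d ≡ 1 [MOD p]))
    (B : Module.End F V) (hB : z * B = B * z) : B = 0 ∨ Function.Injective B := by
  have hW : ∀ w ∈ LinearMap.ker B, z w ∈ LinearMap.ker B := by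
    intro w hw
    rw [LinearMap.mem_ker] at hw ⊢
    have : B (z w) = z (B w) := by
      have := congrArg (fun f : Module.End F V => f w) hB
      simpa using this.symm
    rw [this, hw, map_zero]
  rcases invariant_eq_bot_or_top z hz hz1 hpq hord _ hW with h | h
  · right; exact LinearMap.ker_eq_bot.1 h
  · left; exact LinearMap.ker_eq_top.1 h

theorem isDomain_centralizer {p : ℕ} [hp : Fact p.Prime] (z : Module.End F V) (hz : z ^ p = 1)
    (hz1 : z ≠ 1) (hpq : ¬ p ∣ Fintype.card F)
    (hord : ∀ d, 0 < d → d < finrank F V → ¬ (Fintype.card F ^ d ≡ 1 [MOD p])) :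
    IsDomain (Subring.centralizer ({z} : Set (Module.End F V))) := by
  have hnt : Nontrivial (Module.End F V) := ⟨z, 1, hz1⟩
  have : NoZeroDivisors (Subring.centralizer ({z} : Set (Module.End F V))) := by
    constructor
    intro A B hAB
    have hB := Subring.mem_centralizer_iff.1 B.2 z rfl
    rcases eq_zero_or_bijective z hz hz1 hpq hord B.1 hB with h | h
    · right; exact Subtype.ext h
    · left
      apply Subtype.ext
      have hs : Function.Surjective B.1 := LinearMap.injective_iff_surjective.1 h
      apply LinearMap.ext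
      intro v
      obtain ⟨u, rfl⟩ := hs v
      have := congrArg (fun f : Subring.centralizer ({z} : Set (Module.End F V)) => f.1 u) hAB
      simpa using this
  exact NoZeroDivisors.to_isDomain _

/-- every finite group of linear maps commuting with `z` is cyclic -/
theorem isCyclic_of_commute {p : ℕ} [hp : Fact p.Prime] (z : Module.End F V) (hz : z ^ p = 1)
    (hz1 : z ≠ 1) (hpq : ¬ p ∣ Fintype.card F)
    (hord : ∀ d, 0 < d → d < finrank F V → ¬ (Fintype.card F ^ d ≡ 1 [MOD p]))
    {C : Type*} [Group C] [Finite C] (f : C →* Module.End F V) (hf : Function.Injective f)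
    (hc : ∀ c, z * f c = f c * z) : IsCyclic C := by
  have hD := isDomain_centralizer z hz hz1 hpq hord
  have : Finite V := Module.finite_of_finite F
  have : Finite (Module.End F V) := Finite.of_injective (fun e => (e : V → V)) DFunLike.coe_injective
  have hfield := Finite.isDomain_to_isField (Subring.centralizer ({z} : Set (Module.End F V)))
  let _ : CommRing (Subring.centralizer ({z} : Set (Module.End F V))) :=
    { (inferInstance : Ring (Subring.centralizer ({z} : Set (Module.End F V)))) with
      mul_comm := hfield.mul_comm }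
  let g : C →* Subring.centralizer ({z} : Set (Module.End F V)) :=
    { toFun := fun c => ⟨f c, Subring.mem_centralizer_iff.2 (by rintro _ rfl; exact hc c)⟩
      map_one' := Subtype.ext (map_one f)
      map_mul' := fun a b => Subtype.ext (map_mul f a b) }
  have hg : Function.Injective g := by
    intro a b hab
    exact hf (congrArg Subtype.val hab)
  exact isCyclic_of_injective_ringHom g hg

end Cfsg.Agent.Lib.Helper37.Irred
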