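import Cfsg.Agent.Lib.Helper37.IrredCyclic

/-!
In the situation of `IrredCyclic`, at most `dim V` elements of the centraliser of `z` have the
characteristic polynomial of `z`.
-/

set_option autoImplicit false

namespace Cfsg.Agent.Lib.Helper37.Irred

open Module Polynomial

variable {F V : Type*} [Field F] [Fintype F] [AddCommGroup V] [Module F V] [FiniteDimensional F V]

theorem ncard_le_of_charpoly {p : ℕ} [hp : Fact p.Prime] (z : Module.End F V) (hz : z ^ p = 1)
    (hz1 : z ≠ 1) (hpq : ¬ p ∣ Fintype.card F)
    (hord : ∀ d, 0 < d → d < finrank F V → ¬ (Fintype.card F ^ d ≡ 1 [MOD p]))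
    (S : Set (Module.End F V))
    (hS : ∀ s ∈ S, z * s = s * z ∧ LinearMap.charpoly s = LinearMap.charpoly z) :
    S.ncard ≤ finrank F V := by
  classical
  have hD := isDomain_centralizer z hz hz1 hpq hord
  have : Finite V := Module.finite_of_finite F
  have : Finite (Module.End F V) := Finite.of_injective (fun e => (e : V → V)) DFunLike.coe_injective
  have hfield := Finite.isDomain_to_isField (Subring.centralizer ({z} : Set (Module.End F V)))
  let _ : CommRing (Subring.centralizer ({z} : Set (Module.End F V))) :=
    { (inferInstance : Ring (Subring.centralizer ({z} : Set (Module.End F V)))) with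
      mul_comm := hfield.mul_comm }
  let φ : F →+* Subring.centralizer ({z} : Set (Module.End F V)) :=
    (algebraMap F (Module.End F V)).codRestrict _ (fun c => by
      rw [Subring.mem_centralizer_iff]
      rintro _ rfl
      exact (Algebra.commutes c _).symm)
  let P : Polynomial (Subring.centralizer ({z} : Set (Module.End F V))) := (LinearMap.charpoly z).map φ
  have hmonic : P.Monic := (LinearMap.charpoly_monic z).map φ
  have hP : P ≠ 0 := hmonic.ne_zero
  have hsub : S ⊆ Subtype.val '' (P.roots.toFinset : Set (Subring.centralizer ({z} : Set (Module.End F V)))) := by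
    intro s hs
    obtain ⟨h1, h2⟩ := hS s hs
    refine ⟨⟨s, Subring.mem_centralizer_iff.2 (by rintro _ rfl; exact h1)⟩, ?_, rfl⟩
    rw [Finset.mem_coe, Multiset.mem_toFinset, mem_roots hP, IsRoot.def, eval_map]
    apply Subtype.ext
    have h3 := hom_eval₂ (LinearMap.charpoly z) φ
      (Subring.centralizer ({z} : Set (Module.End F V))).subtype
      ⟨s, Subring.mem_centralizer_iff.2 (by rintro _ rfl; exact h1)⟩
    have h4 : (Subring.centralizer ({z} : Set (Module.End F V))).subtype.comp φ =
        algebraMap F (Module.End F V) := rfl
    rw [h4] at h3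
    have h5 : eval₂ (algebraMap F (Module.End F V)) s (LinearMap.charpoly z) = 0 := by
      rw [← h2, ← aeval_def]
      exact LinearMap.aeval_self_charpoly s
    exact h3.trans h5
  calc S.ncard ≤ (Subtype.val '' (P.roots.toFinset : Set (Subring.centralizer ({z} : Set (Module.End F V))))).ncard :=
        Set.ncard_le_ncard hsub (Set.toFinite _)
    _ ≤ (P.roots.toFinset : Set (Subring.centralizer ({z} : Set (Module.End F V)))).ncard :=
        Set.ncard_image_le (Set.toFinite _)
    _ = P.roots.toFinset.card := Set.ncard_coe_finset _
    _ ≤ Multiset.card P.roots := Multiset.toFinset_card_le _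
    _ ≤ P.natDegree := card_roots' P
    _ ≤ (LinearMap.charpoly z).natDegree := natDegree_map_le
    _ = finrank F V := LinearMap.charpoly_natDegree z

end Cfsg.Agent.Lib.Helper37.Irred
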