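import Cfsg.Agent.Lib.Helper44.OmegaUnified
import Cfsg.Agent.Lib.Helper44.PlusGeom
import Cfsg.Agent.Lib.Helper5.SLGen

set_option autoImplicit false

namespace Cfsg.Agent.Lib.Helper37.Levi

open Cfsg.Agent.Lib.Helper44 QuadraticMap Matrix
open scoped commutatorElement

variable {m : ℕ} {F : Type*} [Field F]

/-- `A ↦ diag(A, A⁻ᵀ)` as a monoid hom on matrices. -/
noncomputable def leviHom (m : ℕ) (F : Type*) [Field F] :
    Matrix (Fin m) (Fin m) F →* Matrix (Fin m ⊕ Fin m) (Fin m ⊕ Fin m) F where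
  toFun A := Matrix.fromBlocks A 0 0 (A⁻¹)ᵀ
  map_one' := by simp
  map_mul' A B := by
    simp [Matrix.fromBlocks_multiply, Matrix.mul_inv_rev, Matrix.transpose_mul]

theorem leviHom_apply (A : Matrix (Fin m) (Fin m) F) :
    leviHom m F A = Matrix.fromBlocks A 0 0 (A⁻¹)ᵀ := rfl

theorem levi_isom (A : GL (Fin m) F) :
    Units.map (leviHom m F) A ∈ Cfsg.isometryGroup F ⇑(plusQF m F) := by
  rw [mem_isometryGroup]
  intro u
  rw [Units.coe_map, leviHom_apply, Matrix.fromBlocks_mulVec, plusQF_apply,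
    plusQF_apply]
  simp only [Sum.elim_inl, Sum.elim_inr, Matrix.zero_mulVec, add_zero, zero_add]
  change ((A : Matrix (Fin m) (Fin m) F) *ᵥ (u ∘ Sum.inl)) ⬝ᵥ
    (((A : Matrix (Fin m) (Fin m) F)⁻¹)ᵀ *ᵥ (u ∘ Sum.inr)) = (u ∘ Sum.inl) ⬝ᵥ (u ∘ Sum.inr)
  rw [Matrix.dotProduct_mulVec, Matrix.vecMul_transpose, Matrix.mulVec_mulVec]
  have : (A : Matrix (Fin m) (Fin m) F)⁻¹ * (A : Matrix (Fin m) (Fin m) F) = 1 := by
    rw [← Matrix.coe_units_inv, ← Units.val_mul, inv_mul_cancel, Units.val_one]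
  rw [this, Matrix.one_mulVec]

/-- the Levi embedding `GL_m → O⁺_{2m}` -/
noncomputable def leviO (m : ℕ) (F : Type*) [Field F] :
    GL (Fin m) F →* ↥(Cfsg.isometryGroup F ⇑(plusQF m F)) :=
  (Units.map (leviHom m F)).codRestrict _ levi_isom

theorem leviO_coe (A : GL (Fin m) F) :
    ((leviO m F A : GL (Fin m ⊕ Fin m) F) : Matrix (Fin m ⊕ Fin m) (Fin m ⊕ Fin m) F)
      = Matrix.fromBlocks (A : Matrix (Fin m) (Fin m) F) 0 0 ((A : Matrix (Fin m) (Fin m) F)⁻¹)ᵀ := rfl

/-- the diagonal matrix `diag(1,..,a,..,1)` -/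
noncomputable def dg (i : Fin m) (a : Fˣ) : GL (Fin m) F :=
  ⟨Matrix.diagonal (Function.update 1 i (a : F)), Matrix.diagonal (Function.update 1 i ((a⁻¹ : Fˣ) : F)),
    by
      rw [Matrix.diagonal_mul_diagonal, ← Matrix.diagonal_one]
      congr 1
      ext j
      by_cases h : j = i
      · subst h; simp
      · simp [Function.update_of_ne h],
    by
      rw [Matrix.diagonal_mul_diagonal, ← Matrix.diagonal_one]
      congr 1
      ext j
      by_cases h : j = i
      · subst h; simp
      · simp [Function.update_of_ne h]⟩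

theorem dg_coe (i : Fin m) (a : Fˣ) :
    (dg i a : Matrix (Fin m) (Fin m) F) = Matrix.diagonal (Function.update 1 i (a : F)) := rfl

theorem dg_inv_coe (i : Fin m) (a : Fˣ) :
    (dg i a : Matrix (Fin m) (Fin m) F)⁻¹ = Matrix.diagonal (Function.update 1 i ((a⁻¹ : Fˣ) : F)) := by
  rw [← Matrix.coe_units_inv]; rfl

theorem det_dg (i : Fin m) (a : Fˣ) : (dg i a : Matrix (Fin m) (Fin m) F).det = a := by
  rw [dg_coe, Matrix.det_diagonal, Finset.prod_update_of_mem (Finset.mem_univ i)]
  simp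

/-- the vectors `e_i - a f_i` -/
def wv (i : Fin m) (a : F) : Fin m ⊕ Fin m → F :=
  Pi.single (Sum.inl i) 1 - a • Pi.single (Sum.inr i) 1

theorem wv_polar (i : Fin m) (a : F) (x : Fin m ⊕ Fin m → F) :
    polar (plusQF m F) (wv i a) x = x (Sum.inr i) - a * x (Sum.inl i) := by
  rw [wv, polar_sub_left, polar_smul_left, plusQF_polar_single_inl, plusQF_polar_single_inr,
    smul_eq_mul]

theorem wv_Q (i : Fin m) (a : F) : plusQF m F (wv i a) = -a := by
  rw [plusQF_apply, Finset.sum_eq_single i]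
  · simp [wv]
  · intro j _ hj
    simp [wv, Pi.single_apply, hj]
  · simp

theorem leviO_dg (i : Fin m) (a : Fˣ) :
    ((leviO m F (dg i a) : GL (Fin m ⊕ Fin m) F) : Matrix (Fin m ⊕ Fin m) (Fin m ⊕ Fin m) F)
      = ([wv i 1, wv i (a : F)].map (fun v => Cfsg.reflectionMatrix ⇑(plusQF m F) v)).prod := by
  apply matrix_ext_mulVec
  intro x
  rw [prod_reflectionMatrix_mulVec, leviO_coe, dg_inv_coe, dg_coe, Matrix.fromBlocks_mulVec]
  simp only [List.map_cons, List.map_nil, List.prod_cons, List.prod_nil, mul_one,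
    LinearEquiv.mul_apply, refl_apply, wv_Q, wv_polar, Matrix.zero_mulVec, add_zero, zero_add,
    Matrix.diagonal_transpose]
  have ha : (a : F) ≠ 0 := a.ne_zero
  ext k
  rcases k with j | j
  · by_cases h : j = i
    · subst h
      simp [wv, Matrix.mulVec_diagonal]
      try field_simp
      try ring
    · simp [wv, Function.update_of_ne h, Pi.single_apply, h, Matrix.mulVec_diagonal]
  · by_cases h : j = i
    · subst h
      simp [wv, Matrix.mulVec_diagonal]
      try field_simp
      try ring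
    · simp [wv, Function.update_of_ne h, Pi.single_apply, h, Matrix.mulVec_diagonal]

theorem leviO_dg_mem_iff [Fintype F] (h : Fintype.card F ≠ 2 ∨ m ≠ 2) (i : Fin m) (a : Fˣ) :
    leviO m F (dg i a) ∈ Cfsg.Omega F ⇑(plusQF m F) ↔ IsSquare (a : F) := by
  rw [mem_Omega_iff_of_prod (plusQF m F) (plusQF_nondeg m F) (plus_gen_hyp h) _
    [wv i 1, wv i (a : F)] ?_ (leviO_dg i a)]
  · simp [wv_Q]
  · intro v hv
    simp only [List.mem_cons, List.not_mem_nil, or_false] at hv
    rcases hv with rfl | rfl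
    · simp [wv_Q]
    · simp [wv_Q]

theorem eq_commutator_of_mul {G : Type*} [Group G] {g x y : G} (h : g * (y * x) = x * y) :
    g = ⁅x, y⁆ := by
  rw [commutatorElement_def, eq_comm, mul_assoc, ← _root_.mul_inv_rev, mul_inv_eq_iff_eq_mul, h]

theorem toGL_transvection_eq_comm {i j : Fin m} (hij : i ≠ j) (c : F) (a : Fˣ) (ha : (a : F) ≠ 1) :
    SpecialLinearGroup.toGL (SpecialLinearGroup.transvection hij c)
      = ⁅dg i a, SpecialLinearGroup.toGL (SpecialLinearGroup.transvection hij (c / ((a : F) - 1)))⁆ := by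
  apply eq_commutator_of_mul
  apply Units.ext
  have ha1 : (a : F) - 1 ≠ 0 := sub_ne_zero.2 ha
  simp only [Units.val_mul, SpecialLinearGroup.coe_GL_coe_matrix, SpecialLinearGroup.transvection_coe, dg_coe]
  have e1 : ((1 : Matrix (Fin m) (Fin m) F) + single i j c) * (1 + single i j (c / ((a : F) - 1)))
      = 1 + single i j (c + c / ((a : F) - 1)) := by
    simp only [mul_add, add_mul, mul_one, one_mul, single_mul_single_of_ne _ _ _ _ hij.symm, add_zero,
      Matrix.single_add]
    abel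
  rw [← mul_assoc, e1]
  ext k l
  rw [Matrix.mul_diagonal, Matrix.diagonal_mul]
  simp only [Matrix.add_apply, Matrix.one_apply, Matrix.single_apply, Function.update_apply,
    Pi.one_apply]
  by_cases hki : k = i <;> by_cases hlj : l = j <;> by_cases hkl : k = l <;> by_cases hli : l = i <;>
    simp_all [eq_comm]
  have ha1' : (a : F) - 1 ≠ 0 := fun h => ha1 h.symm
  field_simp
  ring

theorem leviO_SL_mem [Fintype F] (h : Fintype.card F ≠ 2 ∨ m ≠ 2) (S : SpecialLinearGroup (Fin m) F) :
    leviO m F (SpecialLinearGroup.toGL S) ∈ Cfsg.Omega F ⇑(plusQF m F) := by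
  rcases Nat.lt_or_ge m 2 with hm | hm
  · have : Subsingleton (Fin m) := by
      rw [Fin.subsingleton_iff_le_one]; omega
    have : S = 1 := Subsingleton.elim _ _
    rw [this, map_one, map_one]
    exact one_mem _
  · have : Nontrivial (Fin m) := Fin.nontrivial_iff_two_le.2 hm
    refine Cfsg.Agent.Lib.Helper5.SL_transvection_induction
      (fun S => leviO m F (SpecialLinearGroup.toGL S) ∈ Cfsg.Omega F ⇑(plusQF m F)) ?_ ?_ S
    · intro i j hij c
      by_cases hF : Fintype.card F = 2
      · have h3 : 3 ≤ Fintype.card (Fin m) := by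
          rw [Fintype.card_fin]
          rcases h with h | h
          · exact absurd hF h
          · omega
        have h4 : SpecialLinearGroup.transvection hij c ∈ commutator (SpecialLinearGroup (Fin m) F) := by
          rw [Cfsg.Agent.Lib.Helper5.SL_commutator_eq_top h3]; trivial
        exact map_mem_commutator ((leviO m F).comp SpecialLinearGroup.toGL) h4
      · obtain ⟨t, ht0, ht1⟩ := exists_ne_zero_one_of_card hF
        apply map_mem_commutator (leviO m F)
        rw [toGL_transvection_eq_comm hij c (Units.mk0 t ht0) (by simpa using ht1)]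
        exact Subgroup.commutator_mem_commutator (Subgroup.mem_top _) (Subgroup.mem_top _)
    · intro A B hA hB
      rw [map_mul, map_mul]
      exact mul_mem hA hB

theorem leviO_mem_iff [Fintype F] (hm : 1 ≤ m) (h : Fintype.card F ≠ 2 ∨ m ≠ 2) (A : GL (Fin m) F) :
    leviO m F A ∈ Cfsg.Omega F ⇑(plusQF m F) ↔ IsSquare (A : Matrix (Fin m) (Fin m) F).det := by
  set i0 : Fin m := ⟨0, hm⟩
  set a : Fˣ := Matrix.GeneralLinearGroup.det A with ha
  have ha' : (a : F) = (A : Matrix (Fin m) (Fin m) F).det := rfl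
  have hdet : (((dg i0 a)⁻¹ * A : GL (Fin m) F) : Matrix (Fin m) (Fin m) F).det = 1 := by
    have h1 : Matrix.GeneralLinearGroup.det ((dg i0 a)⁻¹ * A) = 1 := by
      rw [map_mul, map_inv]
      have : Matrix.GeneralLinearGroup.det (dg i0 a) = a := Units.ext (det_dg i0 a)
      rw [this, ha, inv_mul_cancel]
    exact congrArg Units.val h1
  set S : SpecialLinearGroup (Fin m) F := ⟨_, hdet⟩ with hS
  have hA : A = dg i0 a * SpecialLinearGroup.toGL S := by
    have : SpecialLinearGroup.toGL S = (dg i0 a)⁻¹ * A := Units.ext rfl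
    rw [this, mul_inv_cancel_left]
  rw [← ha', ← leviO_dg_mem_iff h i0 a]
  conv_lhs => rw [hA, map_mul]
  exact Subgroup.mul_mem_cancel_right _ (leviO_SL_mem h S)

end Cfsg.Agent.Lib.Helper37.Levi
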