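import Mathlib

/-!
Nilpotent minimal covers: an abstract criterion for non-existence, and transport along isomorphisms.
-/

set_option autoImplicit false

namespace Cfsg.Agent.Lib.Helper37.NilCover

variable {G : Type*} [Group G]

/-- `𝓐` is a cover of `G` by proper subgroups -/
def IsCover (𝓐 : Finset (Subgroup G)) : Prop :=
  (∀ A ∈ 𝓐, A ≠ ⊤) ∧ (∀ g : G, ∃ A ∈ 𝓐, g ∈ A)

/-- existence of a nilpotent minimal cover -/
def HasNilMinCover (G : Type*) [Group G] : Prop :=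
  ∃ 𝓐 : Finset (Subgroup G), IsCover 𝓐 ∧ (∀ 𝓑 : Finset (Subgroup G), IsCover 𝓑 → 𝓐.card ≤ 𝓑.card) ∧
    (∀ A ∈ 𝓐, Group.IsNilpotent ↥A)

theorem eq_of_nilpotent (H A : Subgroup G) [hA : Group.IsNilpotent A] (h : G) (hH : h ∈ H)
    (h1 : h ≠ 1) (hgen : ∀ x ∈ H, x ∈ Subgroup.zpowers h)
    (hcent : ∀ z ∈ H, z ≠ 1 → ∀ c, c * z = z * c → c ∈ H) (hhA : h ∈ A) : A = H := by
  have hnt : Nontrivial A := ⟨⟨⟨h, hhA⟩, 1, fun e => h1 (congrArg Subtype.val e)⟩⟩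
  have hc := Group.IsNilpotent.center_ne_bot (G := A)
  obtain ⟨⟨z, hz⟩, hz1⟩ := Subgroup.ne_bot_iff_exists_ne_one.1 hc
  have hz1' : (z : G) ≠ 1 := fun e => hz1 (Subtype.ext (Subtype.ext e))
  have hzc : ∀ a : A, (a : G) * z = z * a := fun a =>
    congrArg Subtype.val (Subgroup.mem_center_iff.1 hz a)
  have hzH : (z : G) ∈ H := hcent h hH h1 z (hzc ⟨h, hhA⟩).symm
  apply le_antisymm
  · intro a ha
    exact hcent z hzH hz1' a (hzc ⟨a, ha⟩)
  · intro x hx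
    exact (Subgroup.zpowers_le.2 hhA) (hgen x hx)

theorem not_hasNilMinCover (𝓗 𝓑0 : Finset (Subgroup G))
    (h1 : ∀ H ∈ 𝓗, ∃ h ∈ H, h ≠ 1 ∧ (∀ x ∈ H, x ∈ Subgroup.zpowers h))
    (h1' : ∀ H ∈ 𝓗, ∀ z ∈ H, z ≠ 1 → ∀ c, c * z = z * c → c ∈ H)
    (h2 : ∀ H ∈ 𝓗, ∃ B ∈ 𝓑0, H ≤ B)
    (h3 : 𝓑0.card < 𝓗.card)
    (h4 : ∀ B ∈ 𝓑0, B ≠ ⊤) : ¬ HasNilMinCover G := by
  classical
  rintro ⟨𝓐, ⟨hprop, hcov⟩, hmin, hnil⟩
  have hsub : 𝓗 ⊆ 𝓐 := by
    intro H hH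
    obtain ⟨h, hhH, hne, hgen⟩ := h1 H hH
    obtain ⟨A, hA, hhA⟩ := hcov h
    have := hnil A hA
    have e := eq_of_nilpotent H A h hhH hne hgen (h1' H hH) hhA
    rwa [← e]
  have hB : IsCover (𝓑0 ∪ (𝓐 \ 𝓗)) := by
    constructor
    · intro A hA
      rcases Finset.mem_union.1 hA with h | h
      · exact h4 A h
      · exact hprop A (Finset.mem_sdiff.1 h).1
    · intro g
      obtain ⟨A, hA, hgA⟩ := hcov g
      by_cases hAH : A ∈ 𝓗
      · obtain ⟨B, hB, hle⟩ := h2 A hAH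
        exact ⟨B, Finset.mem_union_left _ hB, hle hgA⟩
      · exact ⟨A, Finset.mem_union_right _ (Finset.mem_sdiff.2 ⟨hA, hAH⟩), hgA⟩
  have h5 := hmin _ hB
  have h6 := Finset.card_union_le 𝓑0 (𝓐 \ 𝓗)
  have h7 := Finset.card_sdiff_of_subset hsub
  have h8 := Finset.card_le_card hsub
  omega

theorem IsCover.image_map {G' : Type*} [Group G'] (e : G ≃* G') {𝓐 : Finset (Subgroup G)}
    (h : IsCover 𝓐) [DecidableEq (Subgroup G')] :
    IsCover (𝓐.image (Subgroup.map e.toMonoidHom)) := by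
  constructor
  · intro A hA
    obtain ⟨A0, hA0, rfl⟩ := Finset.mem_image.1 hA
    intro htop
    apply h.1 A0 hA0
    rw [eq_top_iff]
    intro x _
    have : e x ∈ Subgroup.map e.toMonoidHom A0 := by rw [htop]; trivial
    obtain ⟨y, hy, hxy⟩ := this
    have : y = x := e.injective hxy
    rwa [← this]
  · intro g
    obtain ⟨A, hA, hgA⟩ := h.2 (e.symm g)
    exact ⟨_, Finset.mem_image_of_mem _ hA, ⟨e.symm g, hgA, e.apply_symm_apply g⟩⟩

theorem HasNilMinCover.of_equiv {G' : Type*} [Group G'] (e : G ≃* G') (h : HasNilMinCover G) :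
    HasNilMinCover G' := by
  classical
  obtain ⟨𝓐, hcov, hmin, hnil⟩ := h
  refine ⟨𝓐.image (Subgroup.map e.toMonoidHom), hcov.image_map e, ?_, ?_⟩
  · intro 𝓑 hB
    have h1 := hmin _ (hB.image_map e.symm)
    exact (Finset.card_image_le).trans (h1.trans Finset.card_image_le)
  · intro A hA
    obtain ⟨A0, hA0, rfl⟩ := Finset.mem_image.1 hA
    have := hnil A0 hA0
    exact Group.nilpotent_of_mulEquiv (A0.equivMapOfInjective e.toMonoidHom e.injective)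

end Cfsg.Agent.Lib.Helper37.NilCover
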