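import Cfsg.Agent.Lib.Helper37.TICount

/-!
# Counting the conjugates of a self-normalising trivial-intersection subgroup, relative version
-/

set_option autoImplicit false

namespace Cfsg.Agent.Lib.Helper37.TICount

variable {G : Type*} [Group G]

/-- non-identity elements of the `M`-conjugates of `A` -/
def clIn (M A : Subgroup G) : Set G := {x | ∃ g ∈ M, ∃ a ∈ A, a ≠ 1 ∧ x = g * a * g⁻¹}

theorem clIn_subset {M A : Subgroup G} (hAM : A ≤ M) : clIn M A ⊆ (M : Set G) := by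
  rintro _ ⟨g, hg, a, ha, -, rfl⟩
  exact mul_mem (mul_mem hg (hAM ha)) (inv_mem hg)

theorem ne_one_of_mem_clIn {M A : Subgroup G} {x : G} (hx : x ∈ clIn M A) : x ≠ 1 := by
  obtain ⟨g', -, a, ha, h1, rfl⟩ := hx
  intro h
  apply h1
  have : a = g'⁻¹ * (g' * a * g'⁻¹) * g' := by group
  rw [this, h]; group

theorem card_clIn [Finite G] (M A : Subgroup G) (hAM : A ≤ M)
    (hTI : ∀ g ∈ M, ∀ a ∈ A, a ≠ 1 → g * a * g⁻¹ ∈ A → g ∈ A) :
    (clIn M A).ncard * Nat.card A = Nat.card M * (Nat.card A - 1) := by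
  classical
  have hex : ∀ x : clIn M A, ∃ p : G × G, p.1 ∈ M ∧ p.2 ∈ A ∧ p.2 ≠ 1 ∧ (x : G) = p.1 * p.2 * p.1⁻¹ := by
    rintro ⟨x, g, hg, a, ha, h1, rfl⟩
    exact ⟨(g, a), hg, ha, h1, rfl⟩
  choose r hr0 hr1 hr2 hr3 using hex
  let Φ : clIn M A × A → M × {a : A // a ≠ 1} := fun p =>
    (⟨(r p.1).1 * p.2, mul_mem (hr0 p.1) (hAM p.2.2)⟩,
      ⟨⟨(p.2 : G)⁻¹ * (r p.1).2 * p.2, mul_mem (mul_mem (inv_mem p.2.2) (hr1 p.1)) p.2.2⟩, by
      intro h
      apply hr2 p.1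
      have h2 : (p.2 : G)⁻¹ * (r p.1).2 * p.2 = 1 := congrArg Subtype.val h
      have : (r p.1).2 = (p.2 : G) * ((p.2 : G)⁻¹ * (r p.1).2 * p.2) * (p.2 : G)⁻¹ := by group
      rw [this, h2]; group⟩)
  have hΦ : Function.Bijective Φ := by
    constructor
    · rintro ⟨x, n⟩ ⟨y, n'⟩ h
      have h1 : (r x).1 * n = (r y).1 * n' := congrArg (fun p : M × {a : A // a ≠ 1} => (p.1 : G)) h
      have h2 : (n : G)⁻¹ * (r x).2 * n = (n' : G)⁻¹ * (r y).2 * n' :=
        congrArg (fun p : M × {a : A // a ≠ 1} => ((p.2 : A) : G)) h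
      have hxy : x = y := by
        apply Subtype.ext
        rw [hr3 x, hr3 y]
        calc (r x).1 * (r x).2 * (r x).1⁻¹
            = ((r x).1 * n) * ((n : G)⁻¹ * (r x).2 * n) * ((r x).1 * n)⁻¹ := by group
          _ = ((r y).1 * n') * ((n' : G)⁻¹ * (r y).2 * n') * ((r y).1 * n')⁻¹ := by rw [h1, h2]
          _ = (r y).1 * (r y).2 * (r y).1⁻¹ := by group
      subst hxy
      have : n = n' := Subtype.ext (mul_left_cancel h1)
      rw [this]
    · rintro ⟨⟨g, hg⟩, ⟨⟨a, ha⟩, h1⟩⟩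
      have h1' : a ≠ 1 := fun h => h1 (Subtype.ext h)
      let x : clIn M A := ⟨g * a * g⁻¹, g, hg, a, ha, h1', rfl⟩
      have hx : g * a * g⁻¹ = (r x).1 * (r x).2 * (r x).1⁻¹ := hr3 x
      have hn : (r x).1⁻¹ * g ∈ A := by
        apply hTI _ (mul_mem (inv_mem (hr0 x)) hg) a ha h1'
        have : (r x).1⁻¹ * g * a * ((r x).1⁻¹ * g)⁻¹ = (r x).1⁻¹ * (g * a * g⁻¹) * (r x).1 := by group
        rw [this, hx]
        have : (r x).1⁻¹ * ((r x).1 * (r x).2 * (r x).1⁻¹) * (r x).1 = (r x).2 := by group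
        rw [this]
        exact hr1 x
      refine ⟨(x, ⟨_, hn⟩), ?_⟩
      apply Prod.ext
      · apply Subtype.ext
        show (r x).1 * ((r x).1⁻¹ * g) = g
        group
      · apply Subtype.ext
        apply Subtype.ext
        show ((r x).1⁻¹ * g)⁻¹ * (r x).2 * ((r x).1⁻¹ * g) = a
        have : (r x).2 = (r x).1⁻¹ * (g * a * g⁻¹) * (r x).1 := by rw [hx]; group
        rw [this]; group
  have := Nat.card_eq_of_bijective Φ hΦ
  rw [Nat.card_prod, Nat.card_prod, card_ne_one, _root_.Nat.card_coe_set_eq] at this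
  exact this

/-- A group partitioned by self-normalising TI subgroups of order at least three is one of them. -/
theorem eq_of_partition [Finite G] (M : Subgroup G) (T : G → Subgroup G)
    (hself : ∀ g ∈ M, g ≠ 1 → g ∈ T g)
    (hle : ∀ g ∈ M, g ≠ 1 → T g ≤ M)
    (h3 : ∀ g ∈ M, g ≠ 1 → 3 ≤ Nat.card (T g))
    (hTI : ∀ g ∈ M, g ≠ 1 → ∀ x ∈ M, ∀ a ∈ T g, a ≠ 1 → x * a * x⁻¹ ∈ T g → x ∈ T g)
    (heq : ∀ g ∈ M, g ≠ 1 → ∀ a ∈ T g, a ≠ 1 → T a = T g)
    (hconj : ∀ g ∈ M, g ≠ 1 → ∀ x ∈ M, ∀ c, c ∈ T (x * g * x⁻¹) ↔ x⁻¹ * c * x ∈ T g)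
    {g : G} (hg : g ∈ M) (hg1 : g ≠ 1) : M = T g := by
  classical
  by_contra hne
  have c1 := card_clIn M (T g) (hle g hg hg1) (hTI g hg hg1)
  have key : ∀ h ∈ M, h ≠ 1 → 2 * Nat.card M ≤ 3 * (clIn M (T h)).ncard := by
    intro h hh hh1
    have c := card_clIn M (T h) (hle h hh hh1) (hTI h hh hh1)
    have h3' := h3 h hh hh1
    obtain ⟨e, he⟩ : ∃ e, Nat.card (T h) = e + 1 := ⟨Nat.card (T h) - 1, by omega⟩
    rw [he, Nat.add_sub_cancel] at c
    have hpos : 0 < e + 1 := by positivity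
    apply Nat.le_of_mul_le_mul_right _ hpos
    calc 2 * Nat.card M * (e + 1) = Nat.card M * (2 * (e + 1)) := by ring
      _ ≤ Nat.card M * (3 * e) := Nat.mul_le_mul_left _ (by omega)
      _ = 3 * ((clIn M (T h)).ncard * (e + 1)) := by rw [c]; ring
      _ = 3 * (clIn M (T h)).ncard * (e + 1) := by ring
  -- an element outside
  have hout : ∃ h ∈ M, h ≠ 1 ∧ h ∉ clIn M (T g) := by
    by_contra hcon
    push Not at hcon
    have hsub : (M : Set G) ⊆ insert 1 (clIn M (T g)) := by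
      intro h hh
      by_cases h1 : h = 1
      · exact Or.inl h1
      · exact Or.inr (hcon h hh h1)
    have hc := Set.ncard_le_ncard hsub (Set.toFinite _)
    have hc2 := Set.ncard_insert_le (1 : G) (clIn M (T g))
    have hM : (M : Set G).ncard = Nat.card M := rfl
    rw [hM] at hc
    have h3' := h3 g hg hg1
    obtain ⟨e, he⟩ : ∃ e, Nat.card (T g) = e + 1 := ⟨Nat.card (T g) - 1, by omega⟩
    rw [he, Nat.add_sub_cancel] at c1
    have h5 : Nat.card M ≤ e + 1 := by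
      have h6 : Nat.card M * (e + 1) ≤ Nat.card M * e + (e + 1) := by
        calc Nat.card M * (e + 1) ≤ ((clIn M (T g)).ncard + 1) * (e + 1) :=
              Nat.mul_le_mul_right _ (hc.trans hc2)
          _ = (clIn M (T g)).ncard * (e + 1) + (e + 1) := by ring
          _ = _ := by rw [c1]
      have h7 : Nat.card M * (e + 1) = Nat.card M * e + Nat.card M := by ring
      omega
    apply hne
    exact (Subgroup.eq_of_le_of_card_ge (hle g hg hg1) (by rw [he]; exact h5)).symm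
  obtain ⟨h, hh, hh1, hout⟩ := hout
  have hdisj : Disjoint (clIn M (T g)) (clIn M (T h)) := by
    rw [Set.disjoint_left]
    rintro v ⟨x, hx, a, ha, ha1, rfl⟩ ⟨y, hy, b, hb, hb1, hv⟩
    apply hout
    -- `h ∈ T b`, so `y h y⁻¹ ∈ T (y b y⁻¹) = T (x a x⁻¹)`, so `x⁻¹ y h y⁻¹ x ∈ T a = T g`
    have haM : a ∈ M := hle g hg hg1 ha
    have hbM : b ∈ M := hle h hh hh1 hb
    have e1 : h ∈ T b := by rw [heq h hh hh1 b hb hb1]; exact hself h hh hh1
    have e2 : y * h * y⁻¹ ∈ T (y * b * y⁻¹) := by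
      rw [hconj b hbM hb1 y hy]
      have : y⁻¹ * (y * h * y⁻¹) * y = h := by group
      rwa [this]
    rw [← hv, hconj a haM ha1 x hx, heq g hg hg1 a ha ha1] at e2
    refine ⟨y⁻¹ * x, mul_mem (inv_mem hy) hx, _, e2, ?_, by group⟩
    intro h0
    apply hh1
    have : h = y⁻¹ * (x * (x⁻¹ * (y * h * y⁻¹) * x) * x⁻¹) * y := by group
    rw [this, h0]; group
  have hsub : insert 1 (clIn M (T g) ∪ clIn M (T h)) ⊆ (M : Set G) := by
    intro v hv
    rcases hv with rfl | hv | hv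
    · exact M.one_mem
    · exact clIn_subset (hle g hg hg1) hv
    · exact clIn_subset (hle h hh hh1) hv
  have hc := Set.ncard_le_ncard hsub (Set.toFinite _)
  rw [Set.ncard_insert_of_notMem, Set.ncard_union_eq hdisj (Set.toFinite _) (Set.toFinite _)] at hc
  · have hM : (M : Set G).ncard = Nat.card M := rfl
    rw [hM] at hc
    have k1 := key g hg hg1
    have k2 := key h hh hh1
    omega
  · rintro (hv | hv)
    · exact ne_one_of_mem_clIn hv rfl
    · exact ne_one_of_mem_clIn hv rfl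

end Cfsg.Agent.Lib.Helper37.TICount
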