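import Mathlib

/-!
# Counting the conjugates of a trivial-intersection subgroup
-/

set_option autoImplicit false

namespace Cfsg.Agent.Lib.Helper37.TICount

variable {G : Type*} [Group G]

/-- non-identity elements of the conjugates of `A` -/
def cl (A : Subgroup G) : Set G := {x | ∃ g : G, ∃ a ∈ A, a ≠ 1 ∧ x = g * a * g⁻¹}

/-- trivial intersection property -/
def IsTI (A : Subgroup G) : Prop :=
  ∀ g : G, ∀ a ∈ A, a ≠ 1 → g * a * g⁻¹ ∈ A → g ∈ Subgroup.normalizer (A : Set G)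

theorem mem_cl_of_mem {A : Subgroup G} {a : G} (ha : a ∈ A) (h1 : a ≠ 1) : a ∈ cl A :=
  ⟨1, a, ha, h1, by simp⟩

theorem conj_mem_cl {A : Subgroup G} {x : G} (hx : x ∈ cl A) (g : G) : g * x * g⁻¹ ∈ cl A := by
  obtain ⟨g', a, ha, h1, rfl⟩ := hx
  exact ⟨g * g', a, ha, h1, by group⟩

theorem ne_one_of_mem_cl {A : Subgroup G} {x : G} (hx : x ∈ cl A) : x ≠ 1 := by
  obtain ⟨g', a, ha, h1, rfl⟩ := hx
  intro h
  apply h1
  have : a = g'⁻¹ * (g' * a * g'⁻¹) * g' := by group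
  rw [this, h]; group

theorem pow_eq_one_of_mem_cl {A : Subgroup G} {x : G} (hx : x ∈ cl A) {n : ℕ}
    (hn : ∀ a ∈ A, a ^ n = 1) : x ^ n = 1 := by
  obtain ⟨g', a, ha, h1, rfl⟩ := hx
  rw [conj_pow, hn a ha]; group

theorem card_ne_one [Finite G] (A : Subgroup G) : Nat.card {a : A // a ≠ 1} = Nat.card A - 1 := by
  classical
  have : Fintype A := Fintype.ofFinite A
  rw [Nat.card_eq_fintype_card, Nat.card_eq_fintype_card, Fintype.card_subtype_compl,
    Fintype.card_subtype_eq]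

theorem card_cl [Finite G] (A : Subgroup G) (hA : IsTI A) :
    Nat.card (cl A) * Nat.card (Subgroup.normalizer (A : Set G)) = Nat.card G * (Nat.card A - 1) := by
  classical
  have hex : ∀ x : cl A, ∃ p : G × G, p.2 ∈ A ∧ p.2 ≠ 1 ∧ (x : G) = p.1 * p.2 * p.1⁻¹ := by
    rintro ⟨x, g, a, ha, h1, rfl⟩
    exact ⟨(g, a), ha, h1, rfl⟩
  choose r hr1 hr2 hr3 using hex
  have hN : ∀ (n : Subgroup.normalizer (A : Set G)) (a : G), a ∈ A → (n : G)⁻¹ * a * n ∈ A := by
    intro n a ha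
    have := (Subgroup.mem_normalizer_iff.1 (inv_mem n.2) a).1 ha
    simpa using this
  let Φ : cl A × Subgroup.normalizer (A : Set G) → G × {a : A // a ≠ 1} := fun p =>
    ((r p.1).1 * p.2, ⟨⟨(p.2 : G)⁻¹ * (r p.1).2 * p.2, hN p.2 _ (hr1 p.1)⟩, by
      intro h
      apply hr2 p.1
      have h2 : (p.2 : G)⁻¹ * (r p.1).2 * p.2 = 1 := congrArg Subtype.val h
      have : (r p.1).2 = (p.2 : G) * ((p.2 : G)⁻¹ * (r p.1).2 * p.2) * (p.2 : G)⁻¹ := by group
      rw [this, h2]; group⟩)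
  have hΦ : Function.Bijective Φ := by
    constructor
    · rintro ⟨x, n⟩ ⟨y, n'⟩ h
      have h1 : (r x).1 * n = (r y).1 * n' := congrArg Prod.fst h
      have h2 : (n : G)⁻¹ * (r x).2 * n = (n' : G)⁻¹ * (r y).2 * n' :=
        congrArg (fun p : G × {a : A // a ≠ 1} => ((p.2 : A) : G)) h
      have hxy : x = y := by
        apply Subtype.ext
        rw [hr3 x, hr3 y]
        calc (r x).1 * (r x).2 * (r x).1⁻¹
            = ((r x).1 * n) * ((n : G)⁻¹ * (r x).2 * n) * ((r x).1 * n)⁻¹ := by group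
          _ = ((r y).1 * n') * ((n' : G)⁻¹ * (r y).2 * n') * ((r y).1 * n')⁻¹ := by rw [h1, h2]
          _ = (r y).1 * (r y).2 * (r y).1⁻¹ := by group
      subst hxy
      have : n = n' := Subtype.ext (mul_left_cancel h1)
      rw [this]
    · rintro ⟨g, ⟨⟨a, ha⟩, h1⟩⟩
      have h1' : a ≠ 1 := fun h => h1 (Subtype.ext h)
      let x : cl A := ⟨g * a * g⁻¹, g, a, ha, h1', rfl⟩
      have hx : g * a * g⁻¹ = (r x).1 * (r x).2 * (r x).1⁻¹ := hr3 x
      have hn : (r x).1⁻¹ * g ∈ Subgroup.normalizer (A : Set G) := by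
        apply hA _ a ha h1'
        have : (r x).1⁻¹ * g * a * ((r x).1⁻¹ * g)⁻¹ = (r x).1⁻¹ * (g * a * g⁻¹) * (r x).1 := by group
        rw [this, hx]
        have : (r x).1⁻¹ * ((r x).1 * (r x).2 * (r x).1⁻¹) * (r x).1 = (r x).2 := by group
        rw [this]
        exact hr1 x
      refine ⟨(x, ⟨_, hn⟩), ?_⟩
      apply Prod.ext
      · show (r x).1 * ((r x).1⁻¹ * g) = g
        group
      · apply Subtype.ext
        apply Subtype.ext
        show ((r x).1⁻¹ * g)⁻¹ * (r x).2 * ((r x).1⁻¹ * g) = a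
        have : (r x).2 = (r x).1⁻¹ * (g * a * g⁻¹) * (r x).1 := by rw [hx]; group
        rw [this]; group
  have := Nat.card_eq_of_bijective Φ hΦ
  rw [Nat.card_prod, Nat.card_prod, card_ne_one] at this
  exact this

end Cfsg.Agent.Lib.Helper37.TICount
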